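import Mathlib
import Groth.Prelude.Def_GmAct
import Groth.Agent.Lib.Helper26.SchDominant
import Groth.Agent.Lib.Helper4.GmActJ
import Groth.Agent.Lib.Helper20.GmDense

/-!
# Equivariant families over the affine line (helper14, S19039)

Sub-lemmas by helper4 (`GmActJ.act_j`) and helper20 (`GmDense.dominant_j_whisker`).
-/

namespace Groth.Agent.Lib.Helper14.A1Fam

open CategoryTheory CategoryTheory.Limits MonoidalCategory CartesianMonoidalCategory MonObj GrpObj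
  AlgebraicGeometry

universe u

variable (R : Type u) [CommRing R]

/-- the inclusion `G_m → A¹`, `t ↦ t` -/
noncomputable abbrev j : ThetaS.Gm R ⟶ ThetaS.Line R := CoactBr.pt (ThetaS.linePt (ThetaS.zPow R 1))

theorem act_j : lift (fst (ThetaS.Gm R) (ThetaS.Gm R)) (snd (ThetaS.Gm R) (ThetaS.Gm R) ≫ j R) ≫
    (ThetaS.lineAction R).act = μ[ThetaS.Gm R] ≫ j R :=
  Groth.Agent.Lib.Helper4.GmActJ.act_j R

theorem dominant_j_whisker (T : Over (Spec (CommRingCat.of R))) :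
    IsSchemeTheoreticallyDominant ((j R ▷ T).left) :=
  Groth.Agent.Lib.Helper20.GmDense.dominant_j_whisker R T

section general
variable {C : Type*} [Category C] [CartesianMonoidalCategory C]

theorem whiskerLeft_eq_lift (G : C) {A B : C} (f : A ⟶ B) :
    G ◁ f = lift (fst G A) (snd G A ≫ f) := by
  ext <;> simp

/-- swap the first two factors -/
def swap12 (G A T : C) : G ⊗ (A ⊗ T) ⟶ A ⊗ (G ⊗ T) :=
  lift (snd _ _ ≫ fst _ _) (lift (fst _ _) (snd _ _ ≫ snd _ _))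

theorem swap12_swap12 (G A T : C) : swap12 G A T ≫ swap12 A G T = 𝟙 _ := by
  unfold swap12
  ext <;> simp

instance (G A T : C) : IsIso (swap12 G A T) :=
  ⟨⟨swap12 A G T, swap12_swap12 G A T, swap12_swap12 A G T⟩⟩

theorem whiskerLeft_whiskerRight_eq (G T : C) {A B : C} (f : A ⟶ B) :
    G ◁ (f ▷ T) = swap12 G A T ≫ (f ▷ (G ⊗ T)) ≫ swap12 B G T := by
  unfold swap12
  ext <;> simp

end general

theorem dominant_whisker (T : Over (Spec (CommRingCat.of R))) :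
    IsSchemeTheoreticallyDominant ((ThetaS.Gm R ◁ (j R ▷ T)).left) := by
  rw [whiskerLeft_whiskerRight_eq]
  simp only [Over.comp_left]
  haveI := dominant_j_whisker R (ThetaS.Gm R ⊗ T)
  haveI : IsIso (swap12 (ThetaS.Gm R) (ThetaS.Gm R) T).left :=
    inferInstanceAs (IsIso ((Over.forget _).map (swap12 (ThetaS.Gm R) (ThetaS.Gm R) T)))
  haveI : IsIso (swap12 (ThetaS.Line R) (ThetaS.Gm R) T).left :=
    inferInstanceAs (IsIso ((Over.forget _).map (swap12 (ThetaS.Line R) (ThetaS.Gm R) T)))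
  infer_instance

variable {R}

/-- point form of `act_j` -/
theorem act_j_pt {T' : Over (Spec (CommRingCat.of R))} (g h : T' ⟶ ThetaS.Gm R) :
    lift g (h ≫ j R) ≫ (ThetaS.lineAction R).act = (g * h) ≫ j R := by
  have := congrArg (fun t => lift g h ≫ t) (act_j R)
  simp only [← Category.assoc] at this
  rw [comp_lift, lift_fst, ← Category.assoc, lift_snd] at this
  rw [this, Hom.mul_def]

theorem whiskerLeft_j_act :
    (ThetaS.Gm R ◁ j R) ≫ (ThetaS.lineAction R).act = μ[ThetaS.Gm R] ≫ j R := by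
  rw [whiskerLeft_eq_lift, act_j]

/-- `(g, t) ↦ (j g, t)` is `(g, t) ↦ (g • j 1, t)`. -/
theorem j_whisker_eq (T : Over (Spec (CommRingCat.of R))) :
    (ThetaS.Gm R ◁ lift ((1 : T ⟶ ThetaS.Gm R) ≫ j R) (𝟙 T)) ≫
      (α_ (ThetaS.Gm R) (ThetaS.Line R) T).inv ≫ ((ThetaS.lineAction R).act ▷ T) = j R ▷ T := by
  have h1 : (ThetaS.Gm R ◁ lift ((1 : T ⟶ ThetaS.Gm R) ≫ j R) (𝟙 T)) ≫
      (α_ (ThetaS.Gm R) (ThetaS.Line R) T).inv =
      lift (lift (fst _ _) ((snd _ _ ≫ (1 : T ⟶ ThetaS.Gm R)) ≫ j R)) (snd _ _) := by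
    ext <;> simp
  rw [← Category.assoc, h1]
  refine CartesianMonoidalCategory.hom_ext _ _ ?_ ?_
  · rw [Category.assoc, whiskerRight_fst, ← Category.assoc, lift_fst, act_j_pt, MonObj.comp_one,
      _root_.mul_one, whiskerRight_fst]
  · simp

theorem part_a (X : Over (Spec (CommRingCat.of R))) [IsSeparated X.hom]
    (a : AlgGrp.Action (ThetaS.Gm R) X) (T : Over (Spec (CommRingCat.of R)))
    (u v : ThetaS.Line R ⊗ T ⟶ X)
    (hu : (α_ (ThetaS.Gm R) (ThetaS.Line R) T).inv ≫ ((ThetaS.lineAction R).act ▷ T) ≫ u =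
      (ThetaS.Gm R ◁ u) ≫ a.act)
    (hv : (α_ (ThetaS.Gm R) (ThetaS.Line R) T).inv ≫ ((ThetaS.lineAction R).act ▷ T) ≫ v =
      (ThetaS.Gm R ◁ v) ≫ a.act)
    (h1 : lift ((1 : T ⟶ ThetaS.Gm R) ≫ j R) (𝟙 T) ≫ u =
      lift ((1 : T ⟶ ThetaS.Gm R) ≫ j R) (𝟙 T) ≫ v) : u = v := by
  have key : ∀ w : ThetaS.Line R ⊗ T ⟶ X,
      (α_ (ThetaS.Gm R) (ThetaS.Line R) T).inv ≫ ((ThetaS.lineAction R).act ▷ T) ≫ w =
        (ThetaS.Gm R ◁ w) ≫ a.act →
      (j R ▷ T) ≫ w = (ThetaS.Gm R ◁ (lift ((1 : T ⟶ ThetaS.Gm R) ≫ j R) (𝟙 T) ≫ w)) ≫ a.act := by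
    intro w hw
    rw [← j_whisker_eq, Category.assoc, Category.assoc, hw, whiskerLeft_comp, Category.assoc]
  have hw : (j R ▷ T) ≫ u = (j R ▷ T) ≫ v := by rw [key u hu, key v hv, h1]
  haveI := dominant_j_whisker R T
  ext1
  refine Groth.Agent.Lib.Helper26.SchDominant.ext_of_isSchemeTheoreticallyDominant_of_isSeparated
    X.hom ?_ (j R ▷ T).left ?_
  · rw [Over.w u, Over.w v]
  · have := congrArg (fun t => t.left) hw
    simpa using this

theorem part_b (X : Over (Spec (CommRingCat.of R))) [IsSeparated X.hom]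
    (a : AlgGrp.Action (ThetaS.Gm R) X) (T : Over (Spec (CommRingCat.of R)))
    (x : T ⟶ X) (u : ThetaS.Line R ⊗ T ⟶ X)
    (hx : (j R ▷ T) ≫ u = (ThetaS.Gm R ◁ x) ≫ a.act) :
    (α_ (ThetaS.Gm R) (ThetaS.Line R) T).inv ≫ ((ThetaS.lineAction R).act ▷ T) ≫ u =
      (ThetaS.Gm R ◁ u) ≫ a.act := by
  have hw : (ThetaS.Gm R ◁ (j R ▷ T)) ≫
      ((α_ (ThetaS.Gm R) (ThetaS.Line R) T).inv ≫ ((ThetaS.lineAction R).act ▷ T) ≫ u) =
      (ThetaS.Gm R ◁ (j R ▷ T)) ≫ ((ThetaS.Gm R ◁ u) ≫ a.act) := by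
    -- left side
    have hL : (ThetaS.Gm R ◁ (j R ▷ T)) ≫
        ((α_ (ThetaS.Gm R) (ThetaS.Line R) T).inv ≫ ((ThetaS.lineAction R).act ▷ T) ≫ u) =
        (α_ (ThetaS.Gm R) (ThetaS.Gm R) T).inv ≫ (μ[ThetaS.Gm R] ▷ T) ≫ (ThetaS.Gm R ◁ x) ≫ a.act := by
      rw [← Category.assoc, associator_inv_naturality_middle, Category.assoc,
        ← Category.assoc (_ ▷ T), ← comp_whiskerRight, whiskerLeft_j_act, comp_whiskerRight,
        Category.assoc, hx]
    -- right side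
    have hR : (ThetaS.Gm R ◁ (j R ▷ T)) ≫ ((ThetaS.Gm R ◁ u) ≫ a.act) =
        (α_ (ThetaS.Gm R) (ThetaS.Gm R) T).inv ≫ (μ[ThetaS.Gm R] ▷ T) ≫ (ThetaS.Gm R ◁ x) ≫ a.act := by
      rw [← Category.assoc, ← whiskerLeft_comp, hx, whiskerLeft_comp, Category.assoc,
        ← whisker_exchange_assoc, a.mul_act]
      simp
    rw [hL, hR]
  haveI := dominant_whisker R T
  ext1
  refine Groth.Agent.Lib.Helper26.SchDominant.ext_of_isSchemeTheoreticallyDominant_of_isSeparated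
    X.hom ?_ (ThetaS.Gm R ◁ (j R ▷ T)).left ?_
  · rw [Over.w, Over.w]
  · have := congrArg (fun t => t.left) hw
    simpa using this

end Groth.Agent.Lib.Helper14.A1Fam
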